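import Mathlib.AlgebraicGeometry.Group.Abelian
import Groth.Agent.DevissLib.ClosedImm

/-!
# Rigidity of morphisms from abelian varieties over algebraically closed fields
-/

set_option autoImplicit false
set_option backward.isDefEq.respectTransparency false
set_option backward.isDefEq.respectTransparency.types false

universe u

open CategoryTheory CategoryTheory.Limits MonoidalCategory CartesianMonoidalCategory MonObj AlgebraicGeometry
open TopologicalSpace

noncomputable section

namespace AVRigidLib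

variable {K : Type u} [Field K]

/-- The point of a rational point. -/
abbrev pt {X : Over (Spec (CommRingCat.of K))} (a : 𝟙_ (Over (Spec (CommRingCat.of K))) ⟶ X) : X.left :=
  a.left (IsLocalRing.closedPoint K)

lemma pt_comp {X Y : Over (Spec (CommRingCat.of K))} (a : 𝟙_ (Over (Spec (CommRingCat.of K))) ⟶ X) (g : X ⟶ Y) :
    pt (a ≫ g) = g.left (pt a) := rfl

/-- Sections with the same image are equal. -/
theorem eq_of_point {Y : Scheme.{u}} (q : Y ⟶ Spec (CommRingCat.of K)) {p p' : Spec (CommRingCat.of K) ⟶ Y}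
    (hp : p ≫ q = 𝟙 _) (hp' : p' ≫ q = 𝟙 _) (h : p (IsLocalRing.closedPoint K) = p' (IsLocalRing.closedPoint K)) :
    p = p' := by
  obtain ⟨⟨y, φ⟩, rfl⟩ := (Scheme.SpecToEquivOfField K Y).symm.surjective p
  obtain ⟨⟨y', φ'⟩, rfl⟩ := (Scheme.SpecToEquivOfField K Y).symm.surjective p'
  simp only [Scheme.SpecToEquivOfField_symm_apply, Scheme.Hom.comp_apply, Scheme.fromSpecResidueField_apply] at h hp hp'
  subst h
  obtain ⟨ψ, hψ⟩ := Spec.map_surjective (Y.fromSpecResidueField y ≫ q)
  rw [Category.assoc, ← hψ, ← Spec.map_comp, ← Spec.map_id, Spec.map_inj] at hp hp'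
  have e : φ = φ' := by
    have h1 : ∀ x, φ (ψ x) = x := fun x => congrArg (fun m : CommRingCat.of K ⟶ CommRingCat.of K => m.hom x) hp
    have h2 : ∀ x, φ' (ψ x) = x := fun x => congrArg (fun m : CommRingCat.of K ⟶ CommRingCat.of K => m.hom x) hp'
    ext x
    have hx : ψ (φ x) = x := φ.hom.injective (h1 (φ x))
    calc φ x = φ' (ψ (φ x)) := (h2 (φ x)).symm
      _ = φ' x := by rw [hx]
  rw [e]

lemma isClosed_point {Y : Scheme.{u}} (q : Y ⟶ Spec (CommRingCat.of K)) [IsSeparated q]
    {p : Spec (CommRingCat.of K) ⟶ Y} (hp : p ≫ q = 𝟙 _) : IsClosed {p (IsLocalRing.closedPoint K)} := by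
  haveI := isClosedImmersion_of_comp_eq_id q p hp
  have h := p.isClosedEmbedding.isClosed_range
  rwa [Set.range_eq_singleton (y := p (IsLocalRing.closedPoint K))
    (fun x => congrArg (fun z => p z) (Subsingleton.elim (α := PrimeSpectrum K) x _))] at h

lemma isClosed_pt {X : Over (Spec (CommRingCat.of K))} [IsSeparated X.hom]
    (a : 𝟙_ (Over (Spec (CommRingCat.of K))) ⟶ X) : IsClosed {pt a} := isClosed_point X.hom (Over.w a)

lemma ext_pt {X : Over (Spec (CommRingCat.of K))} {a b : 𝟙_ (Over (Spec (CommRingCat.of K))) ⟶ X}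
    (h : pt a = pt b) : a = b :=
  Over.OverMorphism.ext (eq_of_point X.hom (Over.w a) (Over.w b) h)

/-- Morphisms from a proper integral scheme to an affine scheme are constant. -/
theorem apply_eq_apply {Z V : Scheme.{u}} [IsIntegral Z] [IsAffine V] (h : Z ⟶ Spec (CommRingCat.of K))
    [UniversallyClosed h] (g : Z ⟶ V) (z z' : Z) : g z = g z' := by
  letI := (isField_of_universallyClosed K h).toField
  have e : g ≫ V.isoSpec.hom = Z.toSpecΓ ≫ Spec.map g.appTop := by
    rw [Scheme.isoSpec_hom]; exact (Scheme.toSpecΓ_naturality g)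
  have t : Z.toSpecΓ z = Z.toSpecΓ z' := Subsingleton.elim (α := PrimeSpectrum Γ(Z, ⊤)) _ _
  apply V.isoSpec.hom.homeomorph.injective
  change (g ≫ V.isoSpec.hom) z = (g ≫ V.isoSpec.hom) z'
  rw [e, Scheme.Hom.comp_apply, Scheme.Hom.comp_apply, t]

variable {X : Over (Spec (CommRingCat.of K))} [GrpObj X]

/-- Right translation by a rational point. -/
abbrev tr (d : 𝟙_ (Over (Spec (CommRingCat.of K))) ⟶ X) : X ⟶ X := 𝟙 X * (toUnit X ≫ d)

lemma comp_tr (a d : 𝟙_ (Over (Spec (CommRingCat.of K))) ⟶ X) : a ≫ tr d = a * d := by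
  rw [MonObj.comp_mul, Category.comp_id, ← Category.assoc,
    toUnit_unique (a ≫ toUnit X) (𝟙 _), Category.id_comp]

lemma pt_tr (a d : 𝟙_ (Over (Spec (CommRingCat.of K))) ⟶ X) : (tr d).left (pt a) = pt (a * d) := by
  rw [← pt_comp, comp_tr]

variable [IsAlgClosed K] [IsProper X.hom]

omit [GrpObj X] in
lemma exists_pt {x : X.left} (hx : IsClosed {x}) :
    ∃ a : 𝟙_ (Over (Spec (CommRingCat.of K))) ⟶ X, pt a = x :=
  ⟨Over.homMk (pointOfClosedPoint X.hom x hx) (pointOfClosedPoint_comp X.hom x hx),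
    pointOfClosedPoint_apply X.hom x hx _⟩

variable [IsIntegral X.left] {Y : Scheme.{u}} (q : Y ⟶ Spec (CommRingCat.of K)) [IsSeparated q]
  (f : X.left ⟶ Y) (hf : f ≫ q = X.hom)

include hf in
/-- Rigidity along an irreducible closed subset of a fibre. -/
theorem rigid_irreducible {Z : Set X.left} (hZc : IsClosed Z) (hZi : IsIrreducible Z) {y : Y}
    (hy : ∀ w ∈ Z, f w = y) (a b : 𝟙_ (Over (Spec (CommRingCat.of K))) ⟶ X) (ha : pt a ∈ Z) (hb : pt b ∈ Z)
    (d : 𝟙_ (Over (Spec (CommRingCat.of K))) ⟶ X) : f (pt (a * d)) = f (pt (b * d)) := by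
  obtain ⟨V, hV, hyV, -⟩ := exists_isAffineOpen_mem_and_subset (U := (⊤ : Y.Opens)) (x := y) trivial
  haveI : IsAffine V.toScheme := hV
  obtain ⟨Z', i, hi, hZ'i, hr⟩ := DevissLib.exists_integral_closed hZc hZi
  haveI := hi
  haveI := hZ'i
  haveI : IsProper (X ⊗ X).hom := by dsimp; infer_instance
  haveI : IsProper (fst X X).left := by dsimp; infer_instance
  haveI : JacobsonSpace (X ⊗ X).left := LocallyOfFiniteType.jacobsonSpace (Y := Spec _) (X ⊗ X).hom
  haveI : JacobsonSpace X.left := LocallyOfFiniteType.jacobsonSpace (Y := Spec _) X.hom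
  let m : X ⊗ X ⟶ X := snd X X * fst X X
  let B : Set (X ⊗ X).left := (snd X X).left ⁻¹' Z ∩ m.left ⁻¹' (f ⁻¹' (V : Set Y)ᶜ)
  have hB : IsClosed B := (hZc.preimage (snd X X).left.continuous).inter
    ((V.isOpen.isClosed_compl.preimage f.continuous).preimage m.left.continuous)
  let W : Set X.left := ((fst X X).left '' B)ᶜ
  have hWo : IsOpen W := ((fst X X).left.isClosedMap _ hB).isOpen_compl
  have hW1 : pt (1 : 𝟙_ (Over (Spec (CommRingCat.of K))) ⟶ X) ∈ W := by
    rintro ⟨c₀, hc₀, he⟩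
    obtain ⟨c, ⟨⟨hcZ, hcV⟩, hc1⟩, hcc⟩ := nonempty_inter_closedPoints (Z := B ∩ (fst X X).left ⁻¹' {_})
      ⟨c₀, hc₀, he⟩ ((hB.inter ((isClosed_pt _).preimage (fst X X).left.continuous)).isLocallyClosed)
    obtain ⟨γ, rfl⟩ := exists_pt (X := X ⊗ X) hcc
    have e1 : γ ≫ fst X X = 1 := ext_pt (by rw [pt_comp]; exact hc1)
    refine hcV ?_
    show f (m.left (pt γ)) ∈ V
    rw [← pt_comp, MonObj.comp_mul, e1, _root_.mul_one, pt_comp, hy _ hcZ]
    exact hyV
  have step : ∀ e : 𝟙_ (Over (Spec (CommRingCat.of K))) ⟶ X, pt e ∈ W → f (pt (a * e)) = f (pt (b * e)) := by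
    intro e he
    let φ : X ⟶ X ⊗ X := lift (toUnit X ≫ e) (𝟙 X)
    have hm : φ ≫ m = tr e := by
      rw [MonObj.comp_mul, lift_snd, lift_fst]
    have hV' : ∀ w : X.left, w ∈ Z → f ((tr e).left w) ∈ V := by
      intro w hw
      by_contra hne
      refine he ⟨φ.left w, ⟨?_, ?_⟩, ?_⟩
      · change (φ ≫ snd X X).left w ∈ Z
        rwa [lift_snd]
      · change f ((φ ≫ m).left w) ∉ V
        rwa [hm]
      · change (φ ≫ fst X X).left w = _
        rw [lift_fst]
        exact congrArg (fun z => e.left z) (Subsingleton.elim (α := PrimeSpectrum K) _ _)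
    have rg : Set.range (i ≫ (tr e).left ≫ f) ⊆ Set.range V.ι := by
      rintro _ ⟨z, rfl⟩
      rw [Scheme.Opens.range_ι]
      exact hV' _ (hr ▸ Set.mem_range_self z)
    obtain ⟨za, hza⟩ : pt a ∈ Set.range i := hr.symm ▸ ha
    obtain ⟨zb, hzb⟩ : pt b ∈ Set.range i := hr.symm ▸ hb
    have key := congrArg V.ι (apply_eq_apply (i ≫ X.hom) (IsOpenImmersion.lift V.ι _ rg) za zb)
    rw [← Scheme.Hom.comp_apply, IsOpenImmersion.lift_fac, ← Scheme.Hom.comp_apply, IsOpenImmersion.lift_fac,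
      Scheme.Hom.comp_apply, Scheme.Hom.comp_apply, hza, Scheme.Hom.comp_apply, Scheme.Hom.comp_apply, hzb,
      pt_tr, pt_tr] at key
    exact key
  let u : X.left ⟶ Y := ((toUnit X ≫ a) * 𝟙 X : X ⟶ X).left ≫ f
  let v : X.left ⟶ Y := ((toUnit X ≫ b) * 𝟙 X : X ⟶ X).left ≫ f
  have huq : u ≫ q = X.hom := by
    change (_ ≫ f) ≫ q = _
    rw [Category.assoc, hf]; exact Over.w _
  have hvq : v ≫ q = X.hom := by
    change (_ ≫ f) ≫ q = _
    rw [Category.assoc, hf]; exact Over.w _
  have hcomp : ∀ (c e : 𝟙_ (Over (Spec (CommRingCat.of K))) ⟶ X),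
      e ≫ ((toUnit X ≫ c) * 𝟙 X : X ⟶ X) = c * e := fun c e => by
    rw [MonObj.comp_mul, Category.comp_id, ← Category.assoc, toUnit_unique (e ≫ toUnit X) (𝟙 _), Category.id_comp]
  have huv : u = v := by
    refine ext_of_fromSpecResidueField_eq u v q (W ∩ closedPoints X.left) ?_ ?_ (huq.trans hvq.symm)
    · rw [dense_iff_closure_eq, JacobsonSpace.closure_inter_closedPoints_eq_closure hWo.isLocallyClosed,
        ← dense_iff_closure_eq]
      exact hWo.dense ⟨_, hW1⟩
    · rintro x ⟨hxW, hx⟩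
      rw [← cancel_epi (Spec.map (residueFieldIsoBase X.hom x hx).hom), ← Category.assoc, ← Category.assoc]
      change pointOfClosedPoint X.hom x hx ≫ u = pointOfClosedPoint X.hom x hx ≫ v
      refine eq_of_point q ?_ ?_ ?_
      · rw [Category.assoc, huq, pointOfClosedPoint_comp]
      · rw [Category.assoc, hvq, pointOfClosedPoint_comp]
      · let e : 𝟙_ (Over (Spec (CommRingCat.of K))) ⟶ X :=
          Over.homMk (pointOfClosedPoint X.hom x hx) (pointOfClosedPoint_comp X.hom x hx)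
        have he : pt e = x := pointOfClosedPoint_apply X.hom x hx _
        have := step e (he ▸ hxW)
        rw [← hcomp a e, ← hcomp b e] at this
        exact this
  have := congrArg (fun g : X.left ⟶ Y => g (pt d)) huv
  rw [← hcomp a d, ← hcomp b d]
  exact this

omit [IsProper X.hom] [IsIntegral X.left] in
/-- Connected components of Noetherian spaces, through finitely many closed pieces. -/
theorem eq_of_forall_component {α β : Type*} [TopologicalSpace α] [NoetherianSpace α] {P : Set α}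
    (hPc : _root_.IsPreconnected P) (g : α → β) (hg : ∀ C ∈ irreducibleComponents P, ∀ s ∈ C, ∀ t ∈ C, g s.1 = g t.1)
    {w w' : α} (hw : w ∈ P) (hw' : w' ∈ P) : g w = g w' := by
  haveI := isPreconnected_iff_preconnectedSpace.1 hPc
  let S₀ : Set P := {s | g s.1 = g w'}
  let 𝒜 := {C ∈ irreducibleComponents P | ∀ s ∈ C, g s.1 = g w'}
  let ℬ := {C ∈ irreducibleComponents P | ∀ s ∈ C, g s.1 ≠ g w'}
  have hfin : (irreducibleComponents P).Finite := NoetherianSpace.finite_irreducibleComponents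
  have e1 : S₀ = ⋃₀ 𝒜 := by
    ext s
    exact ⟨fun hs => ⟨_, ⟨irreducibleComponent_mem_irreducibleComponents s,
      fun t ht => (hg _ (irreducibleComponent_mem_irreducibleComponents s) t ht s mem_irreducibleComponent).trans hs⟩,
        mem_irreducibleComponent⟩, fun ⟨C, hC, hs⟩ => hC.2 s hs⟩
  have e2 : S₀ᶜ = ⋃₀ ℬ := by
    ext s
    exact ⟨fun hs => ⟨_, ⟨irreducibleComponent_mem_irreducibleComponents s,
      fun t ht h => hs ((hg _ (irreducibleComponent_mem_irreducibleComponents s) s mem_irreducibleComponent t ht).trans h)⟩,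
        mem_irreducibleComponent⟩, fun ⟨C, hC, hs⟩ => hC.2 s hs⟩
  have cl : ∀ 𝒞 : Set (Set P), 𝒞 ⊆ irreducibleComponents P → IsClosed (⋃₀ 𝒞) := fun 𝒞 h => by
    rw [Set.sUnion_eq_biUnion]
    exact (hfin.subset h).isClosed_biUnion fun C hC => isClosed_of_mem_irreducibleComponents C (h hC)
  have hS : IsClopen S₀ :=
    ⟨e1 ▸ cl _ fun _ h => h.1, isClosed_compl_iff.1 (e2 ▸ cl _ fun _ h => h.1)⟩
  have : (⟨w, hw⟩ : P) ∈ S₀ := (hS.eq_univ ⟨⟨w', hw'⟩, rfl⟩) ▸ Set.mem_univ _
  exact this

include hf in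
/-- Rigidity along a connected closed subset of a fibre. -/
theorem rigid_connected {P : Set X.left} (hPc : IsClosed P) (hP : _root_.IsPreconnected P) {y : Y}
    (hy : ∀ w ∈ P, f w = y) (a : 𝟙_ (Over (Spec (CommRingCat.of K))) ⟶ X) (ha : pt a ∈ P)
    (d : 𝟙_ (Over (Spec (CommRingCat.of K))) ⟶ X) {w : X.left} (hw : w ∈ P) :
    f ((tr d).left w) = f (pt (a * d)) := by
  haveI : IsLocallyNoetherian X.left := LocallyOfFiniteType.isLocallyNoetherian X.hom
  haveI : CompactSpace X.left := QuasiCompact.compactSpace_of_compactSpace X.hom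
  haveI : IsNoetherian X.left := ⟨⟩
  haveI : JacobsonSpace X.left := LocallyOfFiniteType.jacobsonSpace (Y := Spec _) X.hom
  rw [← pt_tr]
  refine eq_of_forall_component hP (fun x => f ((tr d).left x)) ?_ hw ha
  intro C hC
  let Z : Set X.left := Subtype.val '' C
  have hZc : IsClosed Z :=
    hPc.isClosedEmbedding_subtypeVal.isClosedMap _ (isClosed_of_mem_irreducibleComponents C hC)
  have hZi : IsIrreducible Z := hC.1.image _ continuous_subtype_val.continuousOn
  have hZP : Z ⊆ P := Subtype.coe_image_subset P C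
  obtain ⟨z₀, hz₀, hz₀c⟩ := nonempty_inter_closedPoints hZi.nonempty hZc.isLocallyClosed
  obtain ⟨b, rfl⟩ := exists_pt hz₀c
  have hcl : IsClosed {z : X.left | f ((tr d).left z) = f (pt (b * d))} := by
    have hs : (pt (b * d) : X.left) = (b * d).left (IsLocalRing.closedPoint K) := rfl
    have : IsClosed {f (pt (b * d))} := isClosed_point q (p := (b * d).left ≫ f)
      (by rw [Category.assoc, hf]; exact Over.w (b * d))
    exact this.preimage ((tr d).left ≫ f).continuous
  have hall : Z ⊆ {z : X.left | f ((tr d).left z) = f (pt (b * d))} := by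
    calc Z ⊆ closure Z := subset_closure
      _ = closure (Z ∩ closedPoints X.left) :=
        (JacobsonSpace.closure_inter_closedPoints_eq_closure hZc.isLocallyClosed).symm
      _ ⊆ _ := hcl.closure_subset_iff.2 fun z hz => by
        obtain ⟨c, rfl⟩ := exists_pt hz.2
        change f ((tr d).left (pt c)) = _
        rw [pt_tr]
        exact rigid_irreducible q f hf hZc hZi (fun v hv => hy v (hZP hv)) c b hz.1 hz₀ d
  exact fun s hs t ht => (hall ⟨s, hs, rfl⟩).trans (hall ⟨t, ht, rfl⟩).symm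

end AVRigidLib
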