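import Groth.Agent.AVRigidLib.Core
import Groth.Agent.FibDimLib.Apps

/-!
# Rigidity over arbitrary base fields
-/

set_option autoImplicit false
set_option backward.isDefEq.respectTransparency false
set_option backward.isDefEq.respectTransparency.types false

universe u

open CategoryTheory CategoryTheory.Limits MonoidalCategory CartesianMonoidalCategory MonObj AlgebraicGeometry
open TopologicalSpace

noncomputable section

namespace AVRigidLib

section BaseChange

variable {k K : Type u} [Field k] [Field K] (φ : Spec (CommRingCat.of K) ⟶ Spec (CommRingCat.of k))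
  {X : Over (Spec (CommRingCat.of k))}

/-- The projection of the base change. -/
abbrev π : ((Over.pullback φ).obj X).left ⟶ X.left := pullback.fst X.hom φ

/-- The rational point of the base change. -/
def bpt (d : 𝟙_ (Over (Spec (CommRingCat.of k))) ⟶ X) :
    𝟙_ (Over (Spec (CommRingCat.of K))) ⟶ (Over.pullback φ).obj X :=
  (Functor.Monoidal.εIso (Over.pullback φ)).hom ≫ (Over.pullback φ).map d

lemma map_left_π {A B : Over (Spec (CommRingCat.of k))} (g : A ⟶ B) :
    ((Over.pullback φ).map g).left ≫ pullback.fst B.hom φ = pullback.fst A.hom φ ≫ g.left := by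
  simp

lemma π_bpt (d : 𝟙_ (Over (Spec (CommRingCat.of k))) ⟶ X) : π φ (pt (bpt φ d)) = pt d := by
  change (((Functor.Monoidal.εIso (Over.pullback φ)).hom ≫ (Over.pullback φ).map d).left ≫ pullback.fst X.hom φ)
    (IsLocalRing.closedPoint K) = d.left (IsLocalRing.closedPoint k)
  rw [Over.comp_left, Category.assoc, map_left_π, Scheme.Hom.comp_apply, Scheme.Hom.comp_apply]
  exact congrArg (fun z => d.left z) (Subsingleton.elim (α := PrimeSpectrum k) _ _)

variable [GrpObj X]

lemma map_toUnit_comp (d : 𝟙_ (Over (Spec (CommRingCat.of k))) ⟶ X) :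
    (Over.pullback φ).map (toUnit X ≫ d) = toUnit ((Over.pullback φ).obj X) ≫ bpt φ d := by
  have e : (Over.pullback φ).map (toUnit X) =
      toUnit ((Over.pullback φ).obj X) ≫ (Functor.Monoidal.εIso (Over.pullback φ)).hom := by
    rw [← cancel_mono (Functor.Monoidal.εIso (Over.pullback φ)).inv]
    exact toUnit_unique _ _
  rw [Functor.map_comp, e, Category.assoc]
  rfl

lemma π_tr (d : 𝟙_ (Over (Spec (CommRingCat.of k))) ⟶ X) :
    letI : GrpObj ((Over.pullback φ).obj X) := Functor.grpObjObj
    (tr (bpt φ d)).left ≫ π φ = π φ ≫ (tr d).left := by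
  letI : GrpObj ((Over.pullback φ).obj X) := Functor.grpObjObj
  have e : tr (bpt φ d) = (Over.pullback φ).map (tr d) := by
    unfold tr
    rw [Functor.map_mul, CategoryTheory.Functor.map_id, map_toUnit_comp]
  rw [e]
  exact map_left_π φ (tr d)

variable {Y : Scheme.{u}} (q : Y ⟶ Spec (CommRingCat.of k)) (f : X.left ⟶ Y) (hf : f ≫ q = X.hom)

/-- The base change of the morphism. -/
abbrev bmap : ((Over.pullback φ).obj X).left ⟶ pullback q φ :=
  pullback.map X.hom φ q φ f (𝟙 _) (𝟙 _) (by rw [Category.comp_id, hf]) (by simp)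

omit [GrpObj X] in
lemma bmap_fst : bmap φ q f hf ≫ pullback.fst q φ = π φ ≫ f := pullback.lift_fst _ _ _

omit [GrpObj X] in
lemma bmap_hom : bmap φ q f hf ≫ pullback.snd q φ = ((Over.pullback φ).obj X).hom := by
  rw [pullback.lift_snd, Category.comp_id]; rfl

/-- A rational point has one preimage in the base change. -/
lemma unique_preimage {p : Spec (CommRingCat.of k) ⟶ Y} (hp : p ≫ q = 𝟙 _) {z z' : ↥(pullback q φ)}
    (hz : pullback.fst q φ z = p (IsLocalRing.closedPoint k))
    (hz' : pullback.fst q φ z' = p (IsLocalRing.closedPoint k)) : z = z' := by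
  have hsub : Subsingleton ↥(pullback p (pullback.fst q φ)) := by
    haveI : IsIso (p ≫ q) := by rw [hp]; infer_instance
    let e := pullbackRightPullbackFstIso q φ p ≪≫ asIso (pullback.snd (p ≫ q) φ)
    haveI : Subsingleton ↥(Spec (CommRingCat.of K)) := inferInstanceAs (Subsingleton (PrimeSpectrum K))
    exact e.hom.homeomorph.injective.subsingleton
  obtain ⟨a, -, ha⟩ := Scheme.Pullback.exists_preimage_pullback (f := p) (g := pullback.fst q φ) _ z hz.symm
  obtain ⟨a', -, ha'⟩ := Scheme.Pullback.exists_preimage_pullback (f := p) (g := pullback.fst q φ) _ z' hz'.symm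
  rw [← ha, ← ha', Subsingleton.elim a a']

end BaseChange

lemma isClosed_connectedComponentIn {α : Type*} [TopologicalSpace α] {F : Set α} (hF : IsClosed F) {x : α}
    (hx : x ∈ F) : IsClosed (connectedComponentIn F x) :=
  closure_subset_iff_isClosed.1 (isPreconnected_connectedComponentIn.closure.subset_connectedComponentIn
    (subset_closure (mem_connectedComponentIn hx))
    (hF.closure_subset_iff.2 (connectedComponentIn_subset F x)))

variable {k : Type u} [Field k] {X : Over (Spec (CommRingCat.of k))} [GrpObj X] [IsProper X.hom]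
  [GeometricallyIntegral X.hom] {Y : Scheme.{u}} (q : Y ⟶ Spec (CommRingCat.of k)) [IsSeparated q]
  (f : X.left ⟶ Y) (hf : f ≫ q = X.hom)

/-- The connected component of a rational point in its fibre. -/
abbrev comp (a : 𝟙_ (Over (Spec (CommRingCat.of k))) ⟶ X) : Set X.left :=
  connectedComponentIn (f ⁻¹' {f (pt a)}) (pt a)

include hf in
/-- Rigidity: translations send components of fibres into fibres. -/
theorem rigid (a d : 𝟙_ (Over (Spec (CommRingCat.of k))) ⟶ X) {w : X.left} (hw : w ∈ comp f a) :
    f ((tr d).left w) = f (pt (a * d)) := by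
  let K := AlgebraicClosure k
  let φ : Spec (CommRingCat.of K) ⟶ Spec (CommRingCat.of k) := Spec.map (CommRingCat.ofHom (algebraMap k K))
  let X' := (Over.pullback φ).obj X
  letI : GrpObj X' := Functor.grpObjObj
  haveI : IsProper X'.hom := by dsimp [X']; infer_instance
  haveI : IsIntegral X'.left := by dsimp [X']; infer_instance
  haveI : UniversallyOpen φ := inferInstance
  haveI : UniversallyClosed φ := by
    haveI : IsIntegralHom φ := (IsIntegralHom.SpecMap_iff).2 (algebraMap_isIntegral_iff.2 inferInstance)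
    infer_instance
  haveI : Surjective φ := ⟨Function.surjective_to_subsingleton (α := Spec (CommRingCat.of K))
    (β := Spec (CommRingCat.of k)) _⟩
  have ho : IsOpenMap (π φ (X := X)) := Scheme.Hom.isOpenMap _
  have hc : IsClosedMap (π φ (X := X)) := Scheme.Hom.isClosedMap _
  let y : Y := f (pt a)
  have hpy : (a.left ≫ f) ≫ q = 𝟙 _ := by rw [Category.assoc, hf]; exact Over.w a
  have hF : IsClosed (f ⁻¹' {y}) := (isClosed_point q hpy).preimage f.continuous
  have haF : pt a ∈ f ⁻¹' {y} := rfl
  let C : Set X.left := comp f a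
  let P : Set X'.left := π φ ⁻¹' C
  have hCc : IsClosed C := isClosed_connectedComponentIn hF haF
  have hPc : IsClosed P := hCc.preimage (π φ).continuous
  have haC : pt a ∈ C := mem_connectedComponentIn haF
  have haP : pt (bpt φ a) ∈ P := by
    change π φ _ ∈ C
    rw [π_bpt]
    exact haC
  have uniq : ∀ z : X'.left, π φ z = pt a → z = pt (bpt φ a) := fun z hz =>
    unique_preimage φ X.hom (Over.w a) hz (π_bpt φ a)
  have hP : _root_.IsPreconnected P := by
    rw [isPreconnected_iff_preconnectedSpace, preconnectedSpace_iff_clopen]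
    haveI : PreconnectedSpace C := isPreconnected_iff_preconnectedSpace.1 isPreconnected_connectedComponentIn
    intro S hS
    by_contra hne
    rw [not_or] at hne
    have key : ∀ T : Set P, IsClopen T → T.Nonempty → (⟨pt (bpt φ a), haP⟩ : P) ∈ T := by
      intro T hT hTne
      have hu := (IsClopen.eq_univ ⟨hc.restrictPreimage C _ hT.1, ho.restrictPreimage C _ hT.2⟩
        (hTne.image _) : C.restrictPreimage (π φ) '' T = Set.univ)
      obtain ⟨z, hz, hze⟩ := (hu ▸ Set.mem_univ (⟨pt a, haC⟩ : C) :
        (⟨pt a, haC⟩ : C) ∈ C.restrictPreimage (π φ) '' T)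
      have : z = ⟨pt (bpt φ a), haP⟩ := Subtype.ext (uniq z.1 (congrArg Subtype.val hze))
      exact this ▸ hz
    exact key Sᶜ hS.compl (Set.nonempty_compl.2 hne.2)
      (key S hS (Set.nonempty_iff_ne_empty.2 hne.1))
  haveI : IsSeparated (pullback.snd q φ) := MorphismProperty.pullback_snd _ _ inferInstance
  have hy : ∀ z ∈ P, bmap φ q f hf z = bmap φ q f hf (pt (bpt φ a)) := by
    intro z hz
    refine unique_preimage φ q hpy ?_ ?_
    · rw [← Scheme.Hom.comp_apply, bmap_fst, Scheme.Hom.comp_apply]
      exact (connectedComponentIn_subset _ _ hz : π φ z ∈ f ⁻¹' {f (pt a)})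
    · rw [← Scheme.Hom.comp_apply, bmap_fst, Scheme.Hom.comp_apply, π_bpt]
      rfl
  obtain ⟨w', rfl⟩ := (π φ (X := X)).surjective w
  have key := congrArg (pullback.fst q φ)
    (rigid_connected (pullback.snd q φ) (bmap φ q f hf) (bmap_hom φ q f hf) hPc hP hy (bpt φ a) haP (bpt φ d) hw)
  rw [← pt_tr] at key ⊢
  simp only [← Scheme.Hom.comp_apply, Category.assoc, bmap_fst, reassoc_of% π_tr φ d] at key
  simp only [Scheme.Hom.comp_apply] at key
  rw [π_bpt] at key
  exact key

omit [IsProper X.hom] [GeometricallyIntegral X.hom] in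
lemma tr_tr (d e : 𝟙_ (Over (Spec (CommRingCat.of k))) ⟶ X) : tr d ≫ tr e = tr (d * e) := by
  rw [MonObj.comp_mul, Category.comp_id, ← Category.assoc, toUnit_unique (tr d ≫ toUnit X) (toUnit X),
    show tr (d * e) = 𝟙 X * (toUnit X ≫ (d * e)) from rfl, MonObj.comp_mul, _root_.mul_assoc]

omit [IsProper X.hom] [GeometricallyIntegral X.hom] in
lemma tr_one : tr (1 : 𝟙_ (Over (Spec (CommRingCat.of k))) ⟶ X) = 𝟙 X := by
  rw [tr, MonObj.comp_one, _root_.mul_one]

/-- Translation as a homeomorphism. -/
def trHomeo (d : 𝟙_ (Over (Spec (CommRingCat.of k))) ⟶ X) : X.left ≃ₜ X.left where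
  toFun := (tr d).left
  invFun := (tr d⁻¹).left
  left_inv x := by
    rw [← Scheme.Hom.comp_apply, ← Over.comp_left, tr_tr, mul_inv_cancel, tr_one]; rfl
  right_inv x := by
    rw [← Scheme.Hom.comp_apply, ← Over.comp_left, tr_tr, inv_mul_cancel, tr_one]; rfl
  continuous_toFun := (tr d).left.continuous
  continuous_invFun := (tr d⁻¹).left.continuous

include hf in
lemma image_comp_subset (a d : 𝟙_ (Over (Spec (CommRingCat.of k))) ⟶ X) :
    (tr d).left '' comp f a ⊆ comp f (a * d) := by
  refine (isPreconnected_connectedComponentIn.image _ (tr d).left.continuous.continuousOn).subset_connectedComponentIn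
    ⟨pt a, mem_connectedComponentIn rfl, pt_tr a d⟩ ?_
  rintro _ ⟨w, hw, rfl⟩
  exact rigid q f hf a d hw

include hf in
/-- Translations permute the components of fibres through rational points. -/
theorem image_comp (a d : 𝟙_ (Over (Spec (CommRingCat.of k))) ⟶ X) :
    (tr d).left '' comp f a = comp f (a * d) := by
  refine (image_comp_subset q f hf a d).antisymm fun z hz => ⟨(tr d⁻¹).left z, ?_, (trHomeo d).right_inv z⟩
  have h := image_comp_subset q f hf (a * d) d⁻¹ ⟨z, hz, rfl⟩
  rwa [mul_inv_cancel_right] at h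

omit [GrpObj X] [IsProper X.hom] [GeometricallyIntegral X.hom] in
lemma isOpen_connectedComponent {α : Type*} [TopologicalSpace α] [NoetherianSpace α] (x : α) :
    IsOpen (connectedComponent x) := by
  have e : (connectedComponent x)ᶜ = ⋃₀ {C ∈ irreducibleComponents α | C ⊆ (connectedComponent x)ᶜ} := by
    ext s
    refine ⟨fun hs => ⟨_, ⟨irreducibleComponent_mem_irreducibleComponents s, fun t ht htc => hs ?_⟩,
      mem_irreducibleComponent⟩, fun ⟨C, hC, hs⟩ => hC.2 hs⟩
    rw [connectedComponent_eq htc]
    exact isIrreducible_irreducibleComponent.2.isPreconnected.subset_connectedComponent ht mem_irreducibleComponent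
  rw [← isClosed_compl_iff, e, Set.sUnion_eq_biUnion]
  exact (NoetherianSpace.finite_irreducibleComponents.subset fun _ h => h.1).isClosed_biUnion
    fun C hC => isClosed_of_mem_irreducibleComponents C hC.1

include hf in
/-- The fibre dimension at rational points is constant. -/
theorem fibreDimAt_pt (a d : 𝟙_ (Over (Spec (CommRingCat.of k))) ⟶ X) :
    FlatMor.fibreDimAt f (pt (a * d)) = FlatMor.fibreDimAt f (pt a) := by
  haveI : IsLocallyNoetherian X.left := LocallyOfFiniteType.isLocallyNoetherian X.hom
  haveI : CompactSpace X.left := QuasiCompact.compactSpace_of_compactSpace X.hom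
  haveI : IsNoetherian X.left := ⟨⟩
  have loc : ∀ c : 𝟙_ (Over (Spec (CommRingCat.of k))) ⟶ X, FlatMor.fibreDimAt f (pt c) =
      FlatMor.localDim (comp f c) ⟨pt c, mem_connectedComponentIn rfl⟩ := by
    intro c
    let F : Set X.left := f ⁻¹' {f (pt c)}
    let x : F := ⟨pt c, rfl⟩
    have hC : comp f c = Subtype.val '' connectedComponent x := connectedComponentIn_eq_image (F := F) (x := pt c) rfl
    have hsub : comp f c ⊆ F := connectedComponentIn_subset _ _
    have ho : IsOpen (Set.range (Set.inclusion hsub)) := by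
      have : Set.range (Set.inclusion hsub) = connectedComponent x := by
        rw [Set.range_inclusion]
        ext z
        simp only [Set.mem_setOf_eq, hC, Subtype.val_injective.mem_set_image]
      rw [this]
      exact isOpen_connectedComponent x
    have he : Topology.IsOpenEmbedding ((f.fiberHomeo (f (pt c))).symm ∘ Set.inclusion hsub) :=
      (f.fiberHomeo _).symm.isOpenEmbedding.comp ⟨Topology.IsEmbedding.inclusion hsub, ho⟩
    exact (FibDimLib.localDim_eq_of_isOpenEmbedding he ⟨pt c, mem_connectedComponentIn rfl⟩)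
  rw [loc, loc]
  let e : comp f a ≃ₜ comp f (a * d) :=
    ((trHomeo d).image (comp f a)).trans (Homeomorph.setCongr (image_comp q f hf a d))
  rw [← FibDimLib.localDim_eq_of_isOpenEmbedding e.isOpenEmbedding ⟨pt a, mem_connectedComponentIn rfl⟩]
  congr 1
  exact Subtype.ext (pt_tr a d).symm

include hf in
/-- The fibre dimension is constant. -/
theorem fibreDimAt_eq (x : X.left) :
    FlatMor.fibreDimAt f x = FlatMor.fibreDimAt f (pt (1 : 𝟙_ (Over (Spec (CommRingCat.of k))) ⟶ X)) := by
  let K := AlgebraicClosure (X.left.residueField x)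
  let j : Spec (CommRingCat.of K) ⟶ X.left :=
    Spec.map (CommRingCat.ofHom (algebraMap (X.left.residueField x) K)) ≫ X.left.fromSpecResidueField x
  let φ : Spec (CommRingCat.of K) ⟶ Spec (CommRingCat.of k) := j ≫ X.hom
  let X' := (Over.pullback φ).obj X
  letI : GrpObj X' := Functor.grpObjObj
  haveI : IsProper X'.hom := by dsimp [X']; infer_instance
  haveI : GeometricallyIntegral X'.hom := by dsimp [X']; infer_instance
  haveI : IsSeparated (pullback.snd q φ) := MorphismProperty.pullback_snd _ _ inferInstance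
  haveI : LocallyOfFiniteType f := by
    haveI : LocallyOfFiniteType (f ≫ q) := by rw [hf]; infer_instance
    exact locallyOfFiniteType_of_comp f q
  have sq : IsPullback (π φ (X := X)) (bmap φ q f hf) f (pullback.fst q φ) := by
    refine IsPullback.of_bot ?_ (bmap_fst φ q f hf).symm (IsPullback.of_hasPullback q φ)
    rw [bmap_hom, hf]
    exact IsPullback.of_hasPullback X.hom φ
  have hb : ∀ z : X'.left, FlatMor.fibreDimAt (bmap φ q f hf) z = FlatMor.fibreDimAt f (π φ z) :=
    FibDimLib.fibreDimAt_baseChange sq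
  let xr : 𝟙_ (Over (Spec (CommRingCat.of K))) ⟶ X' :=
    Over.homMk (pullback.lift j (𝟙 _) (by rw [Category.id_comp])) (pullback.lift_snd _ _ _)
  have hxr : π φ (pt xr) = x := by
    change (pullback.lift j (𝟙 _) _ ≫ pullback.fst X.hom φ) (IsLocalRing.closedPoint K) = x
    rw [pullback.lift_fst]
    exact X.left.fromSpecResidueField_apply x _
  let o := bpt φ (1 : 𝟙_ (Over (Spec (CommRingCat.of k))) ⟶ X)
  have h := fibreDimAt_pt (pullback.snd q φ) (bmap φ q f hf) (bmap_hom φ q f hf) o (o⁻¹ * xr)
  rw [mul_inv_cancel_left, hb, hb, hxr, π_bpt] at h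
  exact h

end AVRigidLib
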